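import Cfsg.Agent.Lib.KnownSimple.J1.Rep

/-!
# A stabiliser chain of `J₁`, normalisers and the outer automorphism group
-/

set_option autoImplicit false

namespace Cfsg.Agent.Lib.KnownSimple.J1

open Cfsg Cfsg.Spor Cfsg.Agent.Lib.Compute Cfsg.Agent.Lib.KnownSimple.PE Cfsg.Agent.Lib.KnownSimple.J1Data
open Cfsg.Agent.Lib.KnownSimple.AutRigid

/-- The codes of the level. -/
noncomputable def fs0 : ℕ → ℕ → ℕ := lgetD (fun a => a) [pc pW, pc pU, pc pX2]
/-- The inverse codes of the level. -/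
noncomputable def gs0 : ℕ → ℕ → ℕ := lgetD (fun a => a) [pc pWi, pc pUi, pc pX2i]
/-- The codes of the level. -/
noncomputable def fs1 : ℕ → ℕ → ℕ := lgetD (fun a => a) [pc pW, pc pU2]
/-- The inverse codes of the level. -/
noncomputable def gs1 : ℕ → ℕ → ℕ := lgetD (fun a => a) [pc pWi, pc pU2i]

/-- The first level. -/
noncomputable def L0 : Lev :=
  { b := 10, D := D0, arr := A0, w := 19, m := 524287, mp := 4095, bn := 12, mg := 3, bd := 14, fs := fs0, gs := gs0 }
/-- The second level. -/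
noncomputable def L1 : Lev :=
  { b := 0, D := D1, arr := A1, w := 19, m := 524287, mp := 4095, bn := 12, mg := 3, bd := 14, fs := fs1, gs := gs1 }

/-- A trivial level. -/
noncomputable def triv (b : ℕ) : Lev :=
  { b := b, D := Nat.shiftLeft 1 b, arr := 0, w := 1, m := 1, mp := 1, bn := 1, mg := 1, bd := 1,
    fs := fun _ a => a, gs := fun _ a => a }

theorem triv_D {b y : ℕ} (h : tb (triv b).D y = true) : y = b := by
  rw [tb_eq] at h
  show y = b
  have h1 : (triv b).D = 2 ^ b := by
    show 1 <<< b = 2 ^ b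
    rw [Nat.one_shiftLeft]
  rw [h1, Nat.testBit_two_pow] at h
  exact (by simpa using h : b = y).symm

theorem triv_self (b : ℕ) : tb (triv b).D b = true := by
  rw [tb_eq]
  have h1 : (triv b).D = 2 ^ b := by
    show 1 <<< b = 2 ^ b
    rw [Nat.one_shiftLeft]
  rw [h1, Nat.testBit_two_pow]
  simp

/-- A trivial level in the trivial group. -/
theorem levelTriv {α : Type*} {n : ℕ} {E : Enc α n} {b : ℕ} (hb : b < n) :
    LevelSem E ⊥ ⊥ (triv b) where
  b_lt := hb
  le := le_rfl
  fixK := fun σ hσ => by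
    rw [(Subgroup.mem_bot).1 hσ]
    rfl
  trans := fun y _ hD => by
    have h := triv_D hD
    subst h
    refine ⟨1, Subgroup.one_mem _, rfl, ?_, ?_⟩
    · have : (triv y).dn y = fun p => p := by
        funext p
        have h0 : (triv y).dep y = 0 := by
          show Nat.shiftRight (Nat.land (Nat.shiftRight 0 (Nat.mul 1 y)) 1) 1 = 0
          simp
        show (triv y).dnRec ((triv y).dep y) y p = p
        rw [h0]
        rfl
      rw [this]
      exact isCode_one E
    · have : (triv y).up y = fun p => p := by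
        funext p
        have h0 : (triv y).dep y = 0 := by
          show Nat.shiftRight (Nat.land (Nat.shiftRight 0 (Nat.mul 1 y)) 1) 1 = 0
          simp
        show (triv y).upRec ((triv y).dep y) y p = p
        rw [h0]
        rfl
      rw [this, inv_one]
      exact isCode_one E
  orbit := fun σ hσ => by
    rw [(Subgroup.mem_bot).1 hσ]
    show tb (triv b).D (E.idx (E.pt b)) = true
    rw [E.idx_pt b hb]
    exact triv_self b
  stab := fun σ hσ _ => hσ

/-- Chains of trivial levels. -/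
theorem chainTriv {α : Type*} {n : ℕ} {E : Enc α n} (l : List ℕ) (hl : ∀ b ∈ l, b < n) :
    ChainSem E ⊥ (l.map triv) := by
  induction l with
  | nil => rfl
  | cons b l ih =>
    exact ⟨⊥, levelTriv (hl b List.mem_cons_self), ih fun c hc => hl c (List.mem_cons_of_mem _ hc)⟩

/-- The trailing levels. -/
noncomputable def trail : List Lev := [1048, 2478, 1584, 288, 1384].map triv

theorem trail_bases : basesOf trail = [1048, 2478, 1584, 288, 1384] := rfl

theorem chainTrail : ChainSem E ⊥ trail :=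
  chainTriv _ (by decide)

theorem tree0 : L0.treeOK N = true := by decide +kernel
theorem tree1 : L1.treeOK N = true := by decide +kernel

theorem closure_fix {α : Type*} {n : ℕ} {E : Enc α n} {S : Set (Equiv.Perm α)} {b : ℕ}
    (h : ∀ s ∈ S, s (E.pt b) = E.pt b) : ∀ σ ∈ Subgroup.closure S, σ (E.pt b) = E.pt b := by
  have h1 : Subgroup.closure S ≤ MulAction.stabilizer (Equiv.Perm α) (E.pt b) := by
    rw [Subgroup.closure_le]
    intro s hs
    exact h s hs
  exact fun σ hσ => h1 hσ

/-- The square of the second generator. -/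
noncomputable def u2 : H := u ^ 2

theorem code_u2 : E.IsCode ((u2 : H) : Equiv.Perm (Fin N)) (pc pU2) :=
  isCode_congr (coe_pow_isCode code_u 2) fun i hi =>
    Nat.eq_of_beq_eq_true ((allBelow_iff (fun i => Nat.beq (iterN (pc pU) 2 i) (pc pU2 i)) N).1
      (by decide +kernel) i hi)

theorem code_u2i : E.IsCode ((u2 : H) : Equiv.Perm (Fin N))⁻¹ (pc pU2i) :=
  isCode_inv code_u2 (inv_tab _ _ (by decide +kernel))

/-- The generators of the group. -/
def S0 : Set (Equiv.Perm (Fin N)) := {(w : Equiv.Perm (Fin N)), (u : Equiv.Perm (Fin N)), (x : Equiv.Perm (Fin N))}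
/-- The generators of the stabiliser. -/
def S1 : Set (Equiv.Perm (Fin N)) := {(w : Equiv.Perm (Fin N)), (u2 : Equiv.Perm (Fin N))}

/-- The group. -/
def K0 : Subgroup (Equiv.Perm (Fin N)) := Subgroup.closure S0
/-- The stabiliser. -/
def K1 : Subgroup (Equiv.Perm (Fin N)) := Subgroup.closure S1

theorem w_mem : (w : Equiv.Perm (Fin N)) ∈ K0 := Subgroup.subset_closure (by simp [S0])
theorem u_mem : (u : Equiv.Perm (Fin N)) ∈ K0 := Subgroup.subset_closure (by simp [S0])
theorem x_mem : (x : Equiv.Perm (Fin N)) ∈ K0 := Subgroup.subset_closure (by simp [S0])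

theorem gens0 : GensIn E K0 L0 := by
  intro k
  match k with
  | 0 => exact ⟨_, w_mem, code_w, code_wi⟩
  | 1 => exact ⟨_, u_mem, code_u, code_ui⟩
  | 2 => exact ⟨_, x_mem, code_x, code_xi⟩
  | (k + 3) =>
    refine ⟨1, K0.one_mem, isCode_one E, ?_⟩
    rw [inv_one]
    exact isCode_one E

theorem gens1 : GensIn E K1 L1 := by
  intro k
  match k with
  | 0 => exact ⟨_, Subgroup.subset_closure (by simp [S1]), code_w, code_wi⟩
  | 1 => exact ⟨_, Subgroup.subset_closure (by simp [S1]), code_u2, code_u2i⟩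
  | (k + 2) =>
    refine ⟨1, K1.one_mem, isCode_one E, ?_⟩
    rw [inv_one]
    exact isCode_one E

theorem K0_le_H : K0 ≤ H := by
  rw [K0, Subgroup.closure_le]
  rintro s (rfl | rfl | rfl)
  · exact w.2
  · exact u.2
  · exact x.2

theorem K1_le_K0 : K1 ≤ K0 := by
  rw [K1, Subgroup.closure_le]
  rintro s (rfl | rfl)
  · exact w_mem
  · show ((u ^ 2 : H) : Equiv.Perm (Fin N)) ∈ K0
    rw [Subgroup.coe_pow]
    exact K0.pow_mem u_mem 2

theorem baseL_eq : baseL = [10, 0, 1048, 2478, 1584, 288, 1384] := rfl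

theorem based_H : Based E H baseL := by
  rintro σ ⟨g, rfl⟩ h
  have h1 : g = 1 := by
    apply eq_one_of_fix_base
    intro j
    have h2 := h (baseL.getD j 0) (by
      fin_cases j <;> decide)
    rwa [E_pt_val (baseL_lt j)] at h2
  rw [h1, map_one]

theorem fix_w : ((w : H) : Equiv.Perm (Fin N)) (E.pt 10) = E.pt 10 :=
  fix_of_code code_w (by norm_num) (by decide +kernel)
theorem fix_u2 : ((u2 : H) : Equiv.Perm (Fin N)) (E.pt 10) = E.pt 10 :=
  fix_of_code code_u2 (by norm_num) (by decide +kernel)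

theorem fix_K1 : ∀ σ ∈ K1, σ (E.pt 10) = E.pt 10 := by
  apply closure_fix
  rintro s (rfl | rfl)
  · exact fix_w
  · exact fix_u2

theorem sch1 : schOK N L1 trail 2 = true := by decide +kernel

theorem levelL1 : LevelSem E K1 ⊥ L1 := by
  refine levelS (A := H) (S := S1) (ng := 2) (Ls := trail) (by show (0 : ℕ) < 3080; norm_num) rfl ?_ gens1 tree1 (by decide +kernel)
    (by decide +kernel) chainTrail bot_le (fun σ hσ => by rw [(Subgroup.mem_bot).1 hσ]; rfl) [10] based_H
    (K1_le_K0.trans K0_le_H) ?_ sch1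
  · rintro s (rfl | rfl)
    · exact ⟨0, by norm_num, code_w⟩
    · exact ⟨1, by norm_num, code_u2⟩
  · intro τ hτ a ha
    rw [List.mem_singleton.1 ha]
    exact fix_K1 τ hτ

theorem chain1 : ChainSem E K1 (L1 :: trail) := ⟨⊥, levelL1, chainTrail⟩

theorem sch0 : schOK N L0 (L1 :: trail) 3 = true := by decide +kernel

theorem levelL0 : LevelSem E K0 K1 L0 := by
  refine levelS (A := H) (S := S0) (ng := 3) (Ls := L1 :: trail) (by show (10 : ℕ) < 3080; norm_num) rfl ?_ gens0 tree0 (by decide +kernel)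
    (by decide +kernel) chain1 K1_le_K0 fix_K1 [] based_H K0_le_H (fun _ _ _ h => by simp at h) sch0
  rintro s (rfl | rfl | rfl)
  · exact ⟨0, by norm_num, code_w⟩
  · exact ⟨1, by norm_num, code_u⟩
  · exact ⟨2, by norm_num, code_x⟩

theorem chain0 : ChainSem E K0 (L0 :: L1 :: trail) := ⟨K1, levelL0, chain1⟩

theorem hcX : ρ gX ∈ K0 :=
  sift_sound chain0 [] based_H K0_le_H (fun _ _ _ h => by simp at h) ⟨gX, rfl⟩ (fun _ h => by simp at h) code_X
    (by decide +kernel)
theorem hcY : ρ gY ∈ K0 :=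
  sift_sound chain0 [] based_H K0_le_H (fun _ _ _ h => by simp at h) ⟨gY, rfl⟩ (fun _ h => by simp at h) code_Y
    (by decide +kernel)

theorem H_le : H ≤ K0 := by
  rintro σ ⟨g, rfl⟩
  obtain ⟨g, hg⟩ := g
  show ρ ⟨g, hg⟩ ∈ K0
  induction hg using Subgroup.closure_induction with
  | mem y hy =>
    rcases hy with rfl | rfl
    · exact hcX
    · exact hcY
  | one => exact map_one ρ ▸ K0.one_mem
  | mul a b ha hb h1 h2 =>
    have : (⟨a * b, J1.mul_mem ha hb⟩ : ↥J1) = ⟨a, ha⟩ * ⟨b, hb⟩ := rfl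
    rw [this, map_mul]
    exact K0.mul_mem h1 h2
  | inv a ha h1 =>
    have : (⟨a⁻¹, J1.inv_mem ha⟩ : ↥J1) = (⟨a, ha⟩ : ↥J1)⁻¹ := rfl
    rw [this, map_inv]
    exact K0.inv_mem h1

theorem H_eq : H = K0 := le_antisymm H_le K0_le_H

/-- The levels with a nontrivial orbit. -/
noncomputable def Ls : List Lev := [L0, L1]

theorem chainH : ChainSem E H Ls := by
  rw [H_eq]
  exact ⟨K1, levelL0, ⊥, levelL1, rfl⟩

theorem size0 : L0.size N = 3080 := by decide +kernel
theorem size1 : L1.size N = 57 := by decide +kernel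

theorem card_H : Nat.card H = 175560 := by
  rw [chainH.card_eq, Ls]
  simp only [List.map_cons, List.map_nil, List.prod_cons, List.prod_nil]
  rw [size0, size1]
  norm_num

theorem card_J1 : Nat.card J1 = 175560 := by
  rw [← card_H]
  exact Nat.card_congr (equivRange ρ ρ_inj).toEquiv

/-! ### The normaliser of the Sylow subgroup -/

/-- The group as a type. -/
abbrev G : Type := ↥H

instance : Finite G := inferInstance

theorem based2 : Based E H [10, 0] := based_of_chain chainH

theorem lt2 : ∀ b ∈ [10, 0], b < N := by decide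

/-- Equality in `G` from codes. -/
theorem eq_of_codes {a b : G} {f g : ℕ → ℕ} (h1 : E.IsCode (a : Equiv.Perm (Fin N)) f)
    (h2 : E.IsCode (b : Equiv.Perm (Fin N)) g) (h : f 10 = g 10) (h' : f 0 = g 0) : a = b := by
  apply Subtype.ext
  refine eq_of_base based2 lt2 a.2 b.2 h1 h2 fun c hc => ?_
  rcases List.mem_cons.1 hc with rfl | hc
  · exact h
  · rw [List.mem_singleton.1 hc]
    exact h'

theorem coe_code_mul {a b : G} {f g : ℕ → ℕ} (h1 : E.IsCode (a : Equiv.Perm (Fin N)) f)
    (h2 : E.IsCode (b : Equiv.Perm (Fin N)) g) :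
    E.IsCode ((a * b : G) : Equiv.Perm (Fin N)) (fun i => f (g i)) := isCode_mul h1 h2

theorem w_pow : w ^ 19 = 1 := eq_of_codes (coe_pow_isCode code_w 19) (isCode_one E) (by decide +kernel) (by decide +kernel)
theorem u_pow : u ^ 6 = 1 := eq_of_codes (coe_pow_isCode code_u 6) (isCode_one E) (by decide +kernel) (by decide +kernel)

theorem w_ne : w ≠ 1 := by
  intro h
  have h1 := code_idx code_w (i := 0) (by norm_num)
  rw [h] at h1
  have h2 : pc pW 0 = 0 := by
    rw [← h1]
    rfl
  exact absurd h2 (by decide +kernel)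

theorem orderOf_w : orderOf w = 19 := by
  haveI : Fact (Nat.Prime 19) := ⟨by norm_num⟩
  exact orderOf_eq_prime w_pow w_ne

theorem rel_uw : u * w = w ^ 8 * u :=
  eq_of_codes (coe_code_mul code_u code_w) (coe_code_mul (coe_pow_isCode code_w 8) code_u) (by decide +kernel) (by decide +kernel)

theorem conj_uw : u * w * u⁻¹ = w ^ 8 := by rw [rel_uw]; group

/-- Elements of the normaliser of `⟨w⟩`. -/
noncomputable def csN (i : ℕ) : ℕ → ℕ := fun q => iterN (pc pW) (i / 6) (iterN (pc pU) (i % 6) q)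

theorem search_N : allBelow (fun j => Nat.beq j 0 ||
    srch gram (pc pW) (iterN (pc pW) j) 19 N (leafT (basesOf Ls) (pc pW) (iterN (pc pW) j) csN 114) Ls (fun p => p) [])
    19 = true := by decide +kernel

theorem pow_mod_w (j : ℕ) : w ^ j = w ^ (j % 19) := by
  conv_lhs => rw [← Nat.div_add_mod j 19, pow_add, pow_mul, w_pow, one_pow, one_mul]

theorem hN (g : G) (j : ℕ) (h : g * w * g⁻¹ = w ^ j) : ∃ a b : ℕ, b < 6 ∧ g = w ^ a * u ^ b := by
  have h0 : j % 19 ≠ 0 := by
    intro h0
    rw [pow_mod_w, h0, pow_zero] at h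
    have h3 : g * w = g := mul_inv_eq_one.1 h
    exact w_ne (mul_eq_left.1 h3)
  have h1 := (allBelow_iff _ _).1 search_N (j % 19) (Nat.mod_lt _ (by norm_num))
  rw [Bool.or_eq_true] at h1
  have h2 : srch gram (pc pW) (iterN (pc pW) (j % 19)) 19 N (leafT (basesOf Ls) (pc pW) (iterN (pc pW) (j % 19)) csN 114) Ls
      (fun p => p) [] = true := by
    rcases h1 with h1 | h1
    · exact absurd (Nat.eq_of_beq_eq_true h1) h0
    · exact h1
  have h3 : (g : Equiv.Perm (Fin N)) * w = ((w ^ (j % 19) : G) : Equiv.Perm (Fin N)) * g := by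
    rw [← pow_mod_w, ← h]
    have : g * w = g * w * g⁻¹ * g := by group
    exact congrArg Subtype.val this
  obtain ⟨i, _, hi⟩ := mem_list_of_search (cE := fun i => ((w ^ (i / 6) * u ^ (i % 6) : G) : Equiv.Perm (Fin N)))
    (cs := csN) (K := 114) gramInv g.2 code_w (coe_pow_isCode code_w _) h3 19 chainH (fun i _ => (w ^ (i / 6) * u ^ (i % 6) : G).2)
    (fun i _ => by
      have h5 := coe_code_mul (coe_pow_isCode code_w (i / 6)) (coe_pow_isCode code_u (i % 6))
      exact h5) h2
  exact ⟨i / 6, i % 6, Nat.mod_lt _ (by norm_num), Subtype.ext hi⟩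

/-! ### The centraliser of the element of order 6 -/

theorem search_C : srch gram (pc pU) (pc pU) 6 N (leafT (basesOf Ls) (pc pU) (pc pU) (iterN (pc pU)) 6) Ls (fun p => p) [] = true := by
  decide +kernel

theorem hC (c : G) (h : c * u = u * c) : ∃ i, i < 6 ∧ c = u ^ i := by
  obtain ⟨i, hi, e⟩ := mem_list_of_search (cE := fun i => ((u ^ i : G) : Equiv.Perm (Fin N))) (cs := iterN (pc pU)) (K := 6)
    gramInv c.2 code_u code_u (congrArg Subtype.val h) 6 chainH (fun i _ => (u ^ i : G).2)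
    (fun i _ => coe_pow_isCode code_u i) search_C
  exact ⟨i, hi, Subtype.ext e⟩

theorem rel_xu : x * u = u ^ 5 * x :=
  eq_of_codes (coe_code_mul code_x code_u) (coe_code_mul (coe_pow_isCode code_u 5) code_x) (by decide +kernel) (by decide +kernel)

theorem conj_xu : x * u * x⁻¹ = u ^ 5 := by rw [rel_xu]; group

/-! ### Automorphisms -/

/-- The list of generators. -/
noncomputable def gs : ℕ → G := cns w (cns u (fun _ => 1))

theorem closure_top : Subgroup.closure ({w, u, x} : Set G) = ⊤ := by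
  rw [eq_top_iff]
  intro g _
  have h1 : (g : Equiv.Perm (Fin N)) ∈ K0 := H_le g.2
  have h2 : Subgroup.closure (((↑) : G → Equiv.Perm (Fin N)) '' {w, u, x}) =
      (Subgroup.closure ({w, u, x} : Set G)).map H.subtype := by
    rw [MonoidHom.map_closure]
    rfl
  have h3 : K0 = Subgroup.closure (((↑) : G → Equiv.Perm (Fin N)) '' {w, u, x}) := by
    rw [K0, S0]
    simp [Set.image_insert_eq]
  rw [h3, h2] at h1
  obtain ⟨g', hg', e⟩ := h1
  have : g' = g := Subtype.ext e
  rwa [← this]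

/-- The base as a list. -/
theorem base_eq : basesOf Ls = [10, 0] := rfl

/-- Codes of the generators. -/
noncomputable def cs : ℕ → ℕ → ℕ := cns (pc pW) (cns (pc pU) (fun _ a => a))
/-- Codes of the images of the generators. -/
noncomputable def cs' (e : ℕ) : ℕ → ℕ → ℕ := cns (iterN (pc pW) e) (cns (pc pU) (fun _ a => a))

theorem cs_code (i : ℕ) : E.IsCode ((gs i : G) : Equiv.Perm (Fin N)) (cs i) := by
  match i with
  | 0 => exact code_w
  | 1 => exact code_u
  | (k + 2) => exact isCode_one E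

theorem cs'_code (ψ : MulAut G) (e : ℕ) (h1 : ψ w = w ^ e) (h2 : ψ u = u) (i : ℕ) :
    E.IsCode ((ψ (gs i) : G) : Equiv.Perm (Fin N)) (cs' e i) := by
  match i with
  | 0 =>
    show E.IsCode ((ψ w : G) : Equiv.Perm (Fin N)) (iterN (pc pW) e)
    rw [h1]
    exact coe_pow_isCode code_w e
  | 1 =>
    show E.IsCode ((ψ u : G) : Equiv.Perm (Fin N)) (pc pU)
    rw [h2]
    exact code_u
  | (k + 2) =>
    show E.IsCode ((ψ 1 : G) : Equiv.Perm (Fin N)) (fun a => a)
    rw [map_one]
    exact isCode_one E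

theorem tb1 : tblX [10, 0] cs (cs' 1) (pc pX2) (iterN (pc pU)) tbl1 6 true = true := by decide +kernel
theorem tb2 : tblX [10, 0] cs (cs' 2) (pc pX2) (iterN (pc pU)) tbl2 6 false = true := by decide +kernel
theorem tb4 : tblX [10, 0] cs (cs' 4) (pc pX2) (iterN (pc pU)) tbl4 6 false = true := by decide +kernel

theorem key_eps (e T : ℕ) (acc : Bool) (hT : e = 1 ∨ e = 2 ∨ e = 4) (ψ : MulAut G) (h1 : ψ w = w ^ e) (h2 : ψ u = u) :
    ψ = 1 := by
  have hcE : ∀ i, E.IsCode (((u ^ i : G) : G) : Equiv.Perm (Fin N)) (iterN (pc pU) i) := fun i => coe_pow_isCode code_u i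
  rcases hT with rfl | rfl | rfl
  · obtain ⟨_, h3⟩ := step_tbl (x := x) (y := u) (cE := fun i => u ^ i) based2 lt2 ψ hC conj_xu h2 cs_code
      (cs'_code ψ 1 h1 h2) code_x hcE tb1
    rw [pow_one] at h1
    simp only [pow_zero, mul_one] at h3
    apply Cfsg.Agent.Lib.KnownSimple.PE.eq_one_of_fix closure_top
    rintro g (rfl | rfl | rfl)
    · exact h1
    · exact h2
    · exact h3
  · obtain ⟨h0, _⟩ := step_tbl (x := x) (y := u) (cE := fun i => u ^ i) based2 lt2 ψ hC conj_xu h2 cs_code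
      (cs'_code ψ 2 h1 h2) code_x hcE tb2
    exact Bool.noConfusion h0
  · obtain ⟨h0, _⟩ := step_tbl (x := x) (y := u) (cE := fun i => u ^ i) based2 lt2 ψ hC conj_xu h2 cs_code
      (cs'_code ψ 4 h1 h2) code_x hcE tb4
    exact Bool.noConfusion h0

theorem hcl (k : ℕ) (hk : ¬ 19 ∣ k) : ∃ j, ∃ e ∈ [(1, 1), (2, 10), (4, 5)], k * 8 ^ j ≡ (e : ℕ × ℕ).1 [MOD 19] := by
  have h1 : ∀ a : Fin 19, a.val ≠ 0 → ∃ j : Fin 6, ∃ e ∈ [(1, 1), (2, 10), (4, 5)], (a.val * 8 ^ j.val) % 19 = (e : ℕ × ℕ).1 := by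
    decide
  have h2 : k % 19 ≠ 0 := fun h0 => hk (Nat.dvd_of_mod_eq_zero h0)
  obtain ⟨j, e, he, h3⟩ := h1 ⟨k % 19, Nat.mod_lt _ (by norm_num)⟩ h2
  refine ⟨j.val, e, he, ?_⟩
  have h4 : e.1 < 19 := by
    simp only [List.mem_cons, List.not_mem_nil, or_false] at he
    rcases he with rfl | rfl | rfl <;> norm_num
  unfold Nat.ModEq
  rw [Nat.mod_eq_of_lt h4, ← h3, Nat.mod_mul_mod]

theorem all_inner_G (φ : MulAut G) : φ ∈ Inn G := by
  refine all_inner_classes (p := 19) (r := 8) (m := 6) (k₀ := 11) (by norm_num) orderOf_w ?_ conj_uw u_pow hN ?_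
    (by decide) [(1, 1), (2, 10), (4, 5)] hcl (by decide) ?_ φ
  · rw [show Nat.card G = 175560 from card_H]
    norm_num
  · intro b hb h
    interval_cases b <;> first | rfl | (exfalso; revert h; decide)
  · intro e he ψ h1 h2
    simp only [List.mem_cons, List.not_mem_nil, or_false] at he
    rcases he with rfl | rfl | rfl
    · exact key_eps 1 0 true (Or.inl rfl) ψ h1 h2
    · exact key_eps 2 0 false (Or.inr (Or.inl rfl)) ψ h1 h2
    · exact key_eps 4 0 false (Or.inr (Or.inr rfl)) ψ h1 h2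

theorem card_out_G : Nat.card (Out G) = 1 := card_out_eq_one all_inner_G

theorem card_out_J1 : Nat.card (Out J1) = 1 := by
  rw [card_out_congr (equivRange ρ ρ_inj)]
  exact card_out_G

end Cfsg.Agent.Lib.KnownSimple.J1
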