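import Cfsg.Agent.Lib.KnownSimple.PE.Rig
import Cfsg.Agent.Lib.KnownSimple.J1.Data
import Cfsg.Prelude.Def_Spor_J1

/-!
# The Janko group `J₁` as a permutation group on 3080 vectors
-/

set_option autoImplicit false

namespace Cfsg.Agent.Lib.KnownSimple.J1

open Cfsg Cfsg.Spor Cfsg.Agent.Lib.Compute Cfsg.Agent.Lib.KnownSimple.PE Cfsg.Agent.Lib.KnownSimple.J1Data
open scoped MatrixGroups

/-- The number of points. -/
abbrev N : ℕ := 3080

/-- A packed vector. -/
noncomputable def vecN (i : ℕ) : ℕ := pget 28 268435455 vtbl i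

/-- A digit of a packed vector. -/
noncomputable def dgt (c k : ℕ) : ℕ := Nat.land (Nat.shiftRight c (Nat.mul 4 k)) 15

/-- The vector attached to a number. -/
noncomputable def vecZ (i : ℕ) : Fin 7 → ZMod 11 := fun k => ((dgt (vecN i) k : ℕ) : ZMod 11)

/-- The code from the digits. -/
noncomputable def recode (c : ℕ) : ℕ :=
  dgt c 0 + dgt c 1 * 16 + dgt c 2 * 256 + dgt c 3 * 4096 + dgt c 4 * 65536 + dgt c 5 * 1048576 + dgt c 6 * 16777216

/-- Validity of the table of vectors. -/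
noncomputable def vecOK : Bool :=
  allBelow (fun i => Nat.beq (recode (vecN i)) (vecN i) &&
    Nat.blt (dgt (vecN i) 0) 11 && Nat.blt (dgt (vecN i) 1) 11 && Nat.blt (dgt (vecN i) 2) 11 &&
    Nat.blt (dgt (vecN i) 3) 11 && Nat.blt (dgt (vecN i) 4) 11 && Nat.blt (dgt (vecN i) 5) 11 &&
    Nat.blt (dgt (vecN i) 6) 11) N

theorem vecOK_true : vecOK = true := by decide +kernel

/-- The table is strictly increasing. -/
noncomputable def monoOK : Bool := allBelow (fun i => Nat.blt (vecN i) (vecN (i + 1))) (N - 1)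

theorem monoOK_true : monoOK = true := by decide +kernel

theorem vecN_lt {i j : ℕ} (hij : i < j) (hj : j < N) : vecN i < vecN j := by
  have h1 : ∀ d i, i + d + 1 < N → vecN i < vecN (i + d + 1) := by
    intro d
    induction d with
    | zero =>
      intro i hi
      have := (allBelow_iff _ _).1 monoOK_true i (by omega)
      simpa [Nat.blt_eq] using this
    | succ d ih =>
      intro i hi
      have h2 := ih i (by omega)
      have := (allBelow_iff _ _).1 monoOK_true (i + d + 1) (by omega)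
      have h3 : vecN (i + d + 1) < vecN (i + d + 1 + 1) := by simpa [Nat.blt_eq] using this
      have e : i + (d + 1) + 1 = i + d + 1 + 1 := by ring
      rw [e]
      omega
  obtain ⟨d, rfl⟩ : ∃ d, j = i + d + 1 := ⟨j - i - 1, by omega⟩
  exact h1 d i hj

theorem dgt_lt {i : ℕ} (hi : i < N) (k : Fin 7) : dgt (vecN i) k < 11 := by
  have := (allBelow_iff _ _).1 vecOK_true i hi
  simp only [Bool.and_eq_true, Nat.blt_eq] at this
  obtain ⟨⟨⟨⟨⟨⟨⟨_, h0⟩, h1⟩, h2⟩, h3⟩, h4⟩, h5⟩, h6⟩ := this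
  fin_cases k <;> assumption

theorem recode_eq {i : ℕ} (hi : i < N) : recode (vecN i) = vecN i := by
  have := (allBelow_iff _ _).1 vecOK_true i hi
  simp only [Bool.and_eq_true] at this
  exact Nat.eq_of_beq_eq_true this.1.1.1.1.1.1.1

theorem vecZ_inj {i j : ℕ} (hi : i < N) (hj : j < N) (h : vecZ i = vecZ j) : i = j := by
  have h1 : ∀ k : Fin 7, dgt (vecN i) k = dgt (vecN j) k := by
    intro k
    have h2 := congrFun h k
    have h3 := (ZMod.natCast_eq_natCast_iff' _ _ _).1 h2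
    rwa [Nat.mod_eq_of_lt (dgt_lt hi k), Nat.mod_eq_of_lt (dgt_lt hj k)] at h3
  have h4 : vecN i = vecN j := by
    rw [← recode_eq hi, ← recode_eq hj]
    unfold recode
    have e0 : dgt (vecN i) 0 = dgt (vecN j) 0 := h1 0
    have e1 : dgt (vecN i) 1 = dgt (vecN j) 1 := h1 1
    have e2 : dgt (vecN i) 2 = dgt (vecN j) 2 := h1 2
    have e3 : dgt (vecN i) 3 = dgt (vecN j) 3 := h1 3
    have e4 : dgt (vecN i) 4 = dgt (vecN j) 4 := h1 4
    have e5 : dgt (vecN i) 5 = dgt (vecN j) 5 := h1 5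
    have e6 : dgt (vecN i) 6 = dgt (vecN j) 6 := h1 6
    rw [e0, e1, e2, e3, e4, e5, e6]
  by_contra hne
  rcases Nat.lt_or_gt_of_ne hne with h5 | h5
  · have := vecN_lt h5 hj
    omega
  · have := vecN_lt h5 hi
    omega

/-! ### The action -/

/-- The action of an invertible matrix on vectors. -/
def act : GL (Fin 7) (ZMod 11) →* Equiv.Perm (Fin 7 → ZMod 11) where
  toFun g :=
    { toFun := fun v => (g : Matrix (Fin 7) (Fin 7) (ZMod 11)).mulVec v
      invFun := fun v => ((g⁻¹ : GL (Fin 7) (ZMod 11)) : Matrix (Fin 7) (Fin 7) (ZMod 11)).mulVec v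
      left_inv := fun v => by
        simp only [Matrix.mulVec_mulVec]
        rw [← Units.val_mul, inv_mul_cancel, Units.val_one, Matrix.one_mulVec]
      right_inv := fun v => by
        simp only [Matrix.mulVec_mulVec]
        rw [← Units.val_mul, mul_inv_cancel, Units.val_one, Matrix.one_mulVec] }
  map_one' := by
    ext v k
    simp
  map_mul' := fun g h => by
    ext v k
    simp [Matrix.mulVec_mulVec]

theorem act_apply (g : GL (Fin 7) (ZMod 11)) (v : Fin 7 → ZMod 11) :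
    act g v = (g : Matrix (Fin 7) (Fin 7) (ZMod 11)).mulVec v := rfl

/-- Natural number entries of the matrix `X`. -/
def mX : List (List ℕ) := [[0,1,0,0,0,0,0],[0,0,1,0,0,0,0],[0,0,0,1,0,0,0],[0,0,0,0,1,0,0],[0,0,0,0,0,1,0],[0,0,0,0,0,0,1],[1,0,0,0,0,0,0]]
/-- Natural number entries of the matrix `Y`. -/
def mY : List (List ℕ) := [[8,2,10,10,8,10,8],[9,1,1,3,1,3,3],[10,10,8,10,8,8,2],[10,8,10,8,8,2,10],[8,10,8,8,2,10,10],[1,3,3,9,1,1,3],[3,3,9,1,1,3,1]]

/-- An entry of a list of lists. -/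
def ent (M : List (List ℕ)) (k l : ℕ) : ℕ := (M.getD k []).getD l 0

theorem mX_eq : ∀ k l : Fin 7, ((ent mX k l : ℕ) : ZMod 11) = (jankoX : Matrix (Fin 7) (Fin 7) (ZMod 11)) k l := by
  intro k l
  fin_cases k <;> fin_cases l <;> rfl
theorem mY_eq : ∀ k l : Fin 7, ((ent mY k l : ℕ) : ZMod 11) = (jankoY : Matrix (Fin 7) (Fin 7) (ZMod 11)) k l := by
  intro k l
  fin_cases k <;> fin_cases l <;> rfl

/-- The row product, on the natural numbers. -/
noncomputable def rowP (M : List (List ℕ)) (k c : ℕ) : ℕ :=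
  ent M k 0 * dgt c 0 + ent M k 1 * dgt c 1 + ent M k 2 * dgt c 2 + ent M k 3 * dgt c 3 +
    ent M k 4 * dgt c 4 + ent M k 5 * dgt c 5 + ent M k 6 * dgt c 6

/-- The check of a table for a matrix. -/
noncomputable def tabMat (M : List (List ℕ)) (t : ℕ) : Bool :=
  allBelow (fun i => Nat.blt (pget 12 4095 t i) N && allBelow (fun k => Nat.beq (rowP M k (vecN i) % 11)
    (dgt (vecN (pget 12 4095 t i)) k % 11)) 7) N

theorem tabMat_X : tabMat mX pX = true := by decide +kernel
theorem tabMat_Y : tabMat mY pY = true := by decide +kernel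

theorem mulVec_eq {A : Matrix (Fin 7) (Fin 7) (ZMod 11)} {M : List (List ℕ)}
    (hM : ∀ k l : Fin 7, ((ent M k l : ℕ) : ZMod 11) = A k l) {c c' : ℕ}
    (h : ∀ k : Fin 7, rowP M k c % 11 = dgt c' k % 11) :
    A.mulVec (fun k : Fin 7 => ((dgt c k : ℕ) : ZMod 11)) = fun k : Fin 7 => ((dgt c' k : ℕ) : ZMod 11) := by
  funext k
  rw [Matrix.mulVec, dotProduct, Fin.sum_univ_seven, ← hM, ← hM, ← hM, ← hM, ← hM, ← hM, ← hM]
  have h1 := (ZMod.natCast_eq_natCast_iff' _ _ _).2 (h k)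
  rw [← h1, rowP]
  push_cast
  rfl

theorem tab_spec {A : Matrix (Fin 7) (Fin 7) (ZMod 11)} {M : List (List ℕ)}
    (hM : ∀ k l : Fin 7, ((ent M k l : ℕ) : ZMod 11) = A k l) {t : ℕ} (h : tabMat M t = true) {i : ℕ}
    (hi : i < N) : pget 12 4095 t i < N ∧ A.mulVec (vecZ i) = vecZ (pget 12 4095 t i) := by
  have h1 := (allBelow_iff _ _).1 h i hi
  rw [Bool.and_eq_true] at h1
  refine ⟨by simpa [Nat.blt_eq] using h1.1, ?_⟩
  apply mulVec_eq hM
  intro k
  exact Nat.eq_of_beq_eq_true ((allBelow_iff _ _).1 h1.2 k k.isLt)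

/-- The family of vectors. -/
noncomputable def vecF (i : Fin N) : Fin 7 → ZMod 11 := vecZ i

theorem vecF_inj : Function.Injective vecF := fun i j h => Fin.ext (vecZ_inj i.isLt j.isLt h)

theorem stable_gen (g : GL (Fin 7) (ZMod 11)) (hg : g ∈ ({jankoX, jankoY} : Set (GL (Fin 7) (ZMod 11)))) (i : Fin N) :
    ∃ j : Fin N, act g (vecF i) = vecF j := by
  rcases hg with rfl | rfl
  · obtain ⟨h1, h2⟩ := tab_spec mX_eq tabMat_X i.isLt
    exact ⟨⟨_, h1⟩, h2⟩
  · obtain ⟨h1, h2⟩ := tab_spec mY_eq tabMat_Y i.isLt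
    exact ⟨⟨_, h1⟩, h2⟩

theorem stable_all (g : GL (Fin 7) (ZMod 11)) (hg : g ∈ J1) (i : Fin N) :
    ∃ j : Fin N, act g (vecF i) = vecF j := by
  induction hg using Subgroup.closure_induction generalizing i with
  | mem x hx => exact stable_gen x hx i
  | one => exact ⟨i, by simp⟩
  | mul x y _ _ hx hy =>
    obtain ⟨j, hj⟩ := hy i
    obtain ⟨k, hk⟩ := hx j
    exact ⟨k, by rw [map_mul, Equiv.Perm.mul_apply, hj, hk]⟩
  | inv x _ hx =>
    choose F hF using hx
    have hinj : Function.Injective F := fun a b hab => vecF_inj (by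
      have h1 := hF a
      have h2 := hF b
      rw [hab, ← h2] at h1
      exact (act x).injective h1)
    obtain ⟨j, hj⟩ := (Finite.injective_iff_surjective.1 hinj) i
    refine ⟨j, ?_⟩
    rw [map_inv, Equiv.Perm.inv_eq_iff_eq, hF j, hj]

/-- The action of `J₁`. -/
noncomputable def actJ : ↥J1 →* Equiv.Perm (Fin 7 → ZMod 11) := act.comp J1.subtype

theorem exists_rep : ∃ ρ : ↥J1 →* Equiv.Perm (Fin N), ∀ g i, actJ g (vecF i) = vecF (ρ g i) :=
  exists_perm_rep actJ vecF vecF_inj (fun g i => stable_all g g.2 i)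

/-- The permutation representation. -/
noncomputable def ρ : ↥J1 →* Equiv.Perm (Fin N) := Classical.choose exists_rep

theorem ρ_spec (g : ↥J1) (i : Fin N) : actJ g (vecF i) = vecF (ρ g i) := Classical.choose_spec exists_rep g i

/-- The image of `J₁`. -/
noncomputable def H : Subgroup (Equiv.Perm (Fin N)) := ρ.range

/-- The encoding of the points. -/
def E : Enc (Fin N) N := encFin N

/-! ### Base -/

/-- The matrix with columns the vectors of the base. -/
noncomputable def Bm : Matrix (Fin 7) (Fin 7) (ZMod 11) := fun k j => vecZ (baseL.getD j 0) k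

/-- The inverse of the base matrix. -/
noncomputable def Cm : Matrix (Fin 7) (Fin 7) (ZMod 11) := fun k j => ((ent binv k j : ℕ) : ZMod 11)

theorem Bm_Cm : Bm * Cm = 1 := by decide +kernel

theorem baseL_lt : ∀ j : Fin 7, baseL.getD j 0 < N := by decide +kernel

theorem eq_one_of_fix_base (g : ↥J1) (h : ∀ j : Fin 7, ρ g ⟨_, baseL_lt j⟩ = ⟨_, baseL_lt j⟩) : g = 1 := by
  have h1 : ((g : GL (Fin 7) (ZMod 11)) : Matrix (Fin 7) (Fin 7) (ZMod 11)) * Bm = Bm := by
    ext k j
    have h2 := ρ_spec g ⟨_, baseL_lt j⟩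
    rw [h j] at h2
    have h3 := congrFun h2 k
    exact h3
  have h4 : ((g : GL (Fin 7) (ZMod 11)) : Matrix (Fin 7) (Fin 7) (ZMod 11)) = 1 := by
    have : ((g : GL (Fin 7) (ZMod 11)) : Matrix (Fin 7) (Fin 7) (ZMod 11)) * (Bm * Cm) = Bm * Cm := by
      rw [← Matrix.mul_assoc, h1]
    rwa [Bm_Cm, Matrix.mul_one] at this
  apply Subtype.ext
  apply Units.ext
  exact h4

theorem ρ_inj : Function.Injective ρ := by
  rw [injective_iff_map_eq_one]
  intro g hg
  apply eq_one_of_fix_base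
  intro j
  rw [hg]
  rfl

/-! ### The invariant of pairs -/

/-- The scalar product, on the natural numbers. -/
noncomputable def dotN (a b : ℕ) : ℕ :=
  dgt a 0 * dgt b 0 + dgt a 1 * dgt b 1 + dgt a 2 * dgt b 2 + dgt a 3 * dgt b 3 +
    dgt a 4 * dgt b 4 + dgt a 5 * dgt b 5 + dgt a 6 * dgt b 6

/-- The invariant of a pair of points. -/
noncomputable def gram (i j : ℕ) : ℕ := bcond (Nat.beq i j) 11 (Nat.mod (dotN (vecN i) (vecN j)) 11)

theorem orth (g : GL (Fin 7) (ZMod 11)) (hg : g ∈ J1) :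
    ((g : Matrix (Fin 7) (Fin 7) (ZMod 11))).transpose * (g : Matrix (Fin 7) (Fin 7) (ZMod 11)) = 1 := by
  induction hg using Subgroup.closure_induction with
  | mem x hx =>
    rcases hx with rfl | rfl
    · exact jankoX.inv_val
    · exact jankoY.inv_val
  | one => simp
  | mul x y _ _ hx hy =>
    rw [Units.val_mul, Matrix.transpose_mul]
    calc _ = (y : Matrix (Fin 7) (Fin 7) (ZMod 11)).transpose * (((x : Matrix (Fin 7) (Fin 7) (ZMod 11)).transpose * (x : Matrix (Fin 7) (Fin 7) (ZMod 11))) * (y : Matrix (Fin 7) (Fin 7) (ZMod 11))) := by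
          simp only [Matrix.mul_assoc]
      _ = 1 := by rw [hx, Matrix.one_mul, hy]
  | inv x _ hx =>
    have h1 : ((x⁻¹ : GL (Fin 7) (ZMod 11)) : Matrix (Fin 7) (Fin 7) (ZMod 11)) =
        (x : Matrix (Fin 7) (Fin 7) (ZMod 11)).transpose := by
      have h2 : (x : Matrix (Fin 7) (Fin 7) (ZMod 11)).transpose * (x : Matrix (Fin 7) (Fin 7) (ZMod 11)) *
          ((x⁻¹ : GL (Fin 7) (ZMod 11)) : Matrix (Fin 7) (Fin 7) (ZMod 11)) =
          ((x⁻¹ : GL (Fin 7) (ZMod 11)) : Matrix (Fin 7) (Fin 7) (ZMod 11)) := by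
        rw [hx, Matrix.one_mul]
      rw [Matrix.mul_assoc, ← Units.val_mul, mul_inv_cancel, Units.val_one, Matrix.mul_one] at h2
      exact h2.symm
    rw [h1, Matrix.transpose_transpose]
    exact mul_eq_one_comm.1 hx

theorem dot_inv (g : GL (Fin 7) (ZMod 11)) (hg : g ∈ J1) (v v' : Fin 7 → ZMod 11) :
    (act g v) ⬝ᵥ (act g v') = v ⬝ᵥ v' := by
  rw [act_apply, act_apply, Matrix.dotProduct_mulVec, ← Matrix.mulVec_transpose, Matrix.mulVec_mulVec, orth g hg,
    Matrix.one_mulVec]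

theorem dotN_cast (i j : ℕ) : ((dotN (vecN i) (vecN j) : ℕ) : ZMod 11) = vecZ i ⬝ᵥ vecZ j := by
  rw [dotProduct, Fin.sum_univ_seven, dotN]
  push_cast
  rfl

theorem cdOf_spec (g : ↥J1) {i : ℕ} (hi : i < N) : vecZ (cdOf E (ρ g) i) = actJ g (vecZ i) := by
  have h1 := ρ_spec g ⟨i, hi⟩
  have h2 : E.pt i = (⟨i, hi⟩ : Fin N) := Fin.ext (by simp [E, encFin, Fin.ofNat, Nat.mod_eq_of_lt hi])
  show vecZ (ρ g (E.pt i)).val = _
  rw [h2]
  exact h1.symm

theorem gramInv : GramInv E H gram := by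
  rintro σ ⟨g, rfl⟩ i j hi hj
  have h1 : (cdOf E (ρ g) i = cdOf E (ρ g) j) ↔ i = j := by
    constructor
    · intro h
      have h2 := E.idx_injective h
      have h3 := (ρ g).injective h2
      have h4 := congrArg E.idx h3
      rwa [E.idx_pt i hi, E.idx_pt j hj] at h4
    · rintro rfl
      rfl
  unfold gram
  by_cases hij : i = j
  · subst hij
    rw [Nat.beq_refl, Nat.beq_refl]
    rfl
  · have h5 : Nat.beq i j = false := by
      rw [← Bool.not_eq_true]
      exact fun h => hij (Nat.eq_of_beq_eq_true h)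
    have h6 : Nat.beq (cdOf E (ρ g) i) (cdOf E (ρ g) j) = false := by
      rw [← Bool.not_eq_true]
      exact fun h => hij (h1.1 (Nat.eq_of_beq_eq_true h))
    rw [h5, h6, bcond_false, bcond_false]
    have h7 : ((dotN (vecN (cdOf E (ρ g) i)) (vecN (cdOf E (ρ g) j)) : ℕ) : ZMod 11) =
        ((dotN (vecN i) (vecN j) : ℕ) : ZMod 11) := by
      rw [dotN_cast, dotN_cast, cdOf_spec g hi, cdOf_spec g hj]
      exact dot_inv _ g.2 _ _
    exact (ZMod.natCast_eq_natCast_iff' _ _ _).1 h7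

/-! ### Codes -/

/-- A table of a permutation as a function. -/
noncomputable def pc (t i : ℕ) : ℕ := pget 12 4095 t i

theorem E_pt_val {i : ℕ} (hi : i < N) : E.pt i = (⟨i, hi⟩ : Fin N) :=
  Fin.ext (by simp [E, encFin, Fin.ofNat, Nat.mod_eq_of_lt hi])

theorem code_of_tab {A : GL (Fin 7) (ZMod 11)} (hA : A ∈ J1) {M : List (List ℕ)}
    (hM : ∀ k l : Fin 7, ((ent M k l : ℕ) : ZMod 11) = (A : Matrix (Fin 7) (Fin 7) (ZMod 11)) k l) {t : ℕ}
    (h : tabMat M t = true) : E.IsCode (ρ ⟨A, hA⟩) (pc t) := by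
  intro a
  show pget 12 4095 t a.val = (ρ ⟨A, hA⟩ a).val
  obtain ⟨h1, h2⟩ := tab_spec hM h a.isLt
  have h3 := ρ_spec ⟨A, hA⟩ a
  apply vecZ_inj h1 (ρ ⟨A, hA⟩ a).isLt
  rw [← h2]
  exact h3

/-- The generator `X`. -/
noncomputable def gX : ↥J1 := ⟨jankoX, Subgroup.subset_closure (Set.mem_insert _ _)⟩
/-- The generator `Y`. -/
noncomputable def gY : ↥J1 := ⟨jankoY, Subgroup.subset_closure (Set.mem_insert_of_mem _ rfl)⟩

theorem code_X : E.IsCode (ρ gX) (pc pX) := code_of_tab _ mX_eq tabMat_X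
theorem code_Y : E.IsCode (ρ gY) (pc pY) := code_of_tab _ mY_eq tabMat_Y

theorem inv_tab (a b : ℕ) (h : allBelow (fun i => Nat.beq (pc b (pc a i)) i) N = true) (i : ℕ) (hi : i < N) :
    pc b (pc a i) = i := Nat.eq_of_beq_eq_true ((allBelow_iff _ _).1 h i hi)

theorem code_Xi : E.IsCode (ρ gX)⁻¹ (pc pXi) := isCode_inv code_X (inv_tab _ _ (by decide +kernel))
theorem code_Yi : E.IsCode (ρ gY)⁻¹ (pc pYi) := isCode_inv code_Y (inv_tab _ _ (by decide +kernel))

/-- Generators of the image, as elements of it. -/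
noncomputable def gsH : ℕ → H := lgetD 1 [⟨ρ gX, gX, rfl⟩, ⟨ρ gY, gY, rfl⟩, ⟨(ρ gX)⁻¹, gX⁻¹, by simp⟩, ⟨(ρ gY)⁻¹, gY⁻¹, by simp⟩]

/-- Codes of the generators. -/
noncomputable def csH : ℕ → ℕ → ℕ := lgetD (fun a => a) [pc pX, pc pY, pc pXi, pc pYi]

theorem code_gsH (i : ℕ) : E.IsCode ((gsH i : H) : Equiv.Perm (Fin N)) (csH i) := by
  match i with
  | 0 => exact code_X
  | 1 => exact code_Y
  | 2 => exact code_Xi
  | 3 => exact code_Yi
  | (k + 4) => exact isCode_one E

/-- An element of the image from a word. -/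
noncomputable def wd (W : List ℕ) : H := (W.map gsH).prod

theorem code_wd (W : List ℕ) (t : ℕ) (h : allBelow (fun i => Nat.beq (evW csH W i) (pc t i)) N = true) :
    E.IsCode ((wd W : H) : Equiv.Perm (Fin N)) (pc t) :=
  isCode_congr (isCode_ev gsH csH code_gsH W) fun i hi => Nat.eq_of_beq_eq_true ((allBelow_iff _ _).1 h i hi)

/-- The three generators. -/
noncomputable def w : H := wd wordW
/-- The three generators. -/
noncomputable def u : H := wd wordU
/-- The three generators. -/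
noncomputable def x : H := wd wordX

theorem code_w : E.IsCode ((w : H) : Equiv.Perm (Fin N)) (pc pW) := code_wd _ _ (by decide +kernel)
theorem code_u : E.IsCode ((u : H) : Equiv.Perm (Fin N)) (pc pU) := code_wd _ _ (by decide +kernel)
theorem code_x : E.IsCode ((x : H) : Equiv.Perm (Fin N)) (pc pX2) := code_wd _ _ (by decide +kernel)

theorem code_wi : E.IsCode ((w : H) : Equiv.Perm (Fin N))⁻¹ (pc pWi) := isCode_inv code_w (inv_tab _ _ (by decide +kernel))
theorem code_ui : E.IsCode ((u : H) : Equiv.Perm (Fin N))⁻¹ (pc pUi) := isCode_inv code_u (inv_tab _ _ (by decide +kernel))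
theorem code_xi : E.IsCode ((x : H) : Equiv.Perm (Fin N))⁻¹ (pc pX2i) := isCode_inv code_x (inv_tab _ _ (by decide +kernel))

end Cfsg.Agent.Lib.KnownSimple.J1
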